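import Cfsg.Agent.Lib.Cores.Basic

/-!
Finite groups in which any two subgroups of the same order are conjugate: generalities.
-/

set_option autoImplicit false
set_option linter.style.haveILetI false

universe u

namespace Cfsg.Agent.Lib.EqualConj4

open Subgroup

/-- Any two subgroups of the same order are conjugate. -/
def EC (X : Type u) [Group X] : Prop :=
  ∀ H K : Subgroup X, Nat.card H = Nat.card K → ∃ g : X, K = H.map (MulAut.conj g).toMonoidHom

variable {X : Type u} [Group X] [Finite X]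

theorem EC.quotient (h : EC X) (N : Subgroup X) [N.Normal] : EC (X ⧸ N) := by
  intro H K hHK
  have hf : Function.Surjective (QuotientGroup.mk' N) := QuotientGroup.mk'_surjective N
  have hi : H.index = K.index := by
    have h1 := H.card_mul_index
    rw [← K.card_mul_index, hHK] at h1
    exact Nat.eq_of_mul_eq_mul_left Nat.card_pos h1
  have hc : Nat.card (H.comap (QuotientGroup.mk' N)) = Nat.card (K.comap (QuotientGroup.mk' N)) := by
    have h1 := (H.comap (QuotientGroup.mk' N)).card_mul_index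
    rw [← (K.comap (QuotientGroup.mk' N)).card_mul_index, index_comap_of_surjective _ hf,
      index_comap_of_surjective _ hf, hi] at h1
    exact Nat.eq_of_mul_eq_mul_right (Nat.pos_of_ne_zero index_ne_zero_of_finite) h1
  obtain ⟨g, hg⟩ := h _ _ hc
  refine ⟨QuotientGroup.mk' N g, ?_⟩
  have h2 := congrArg (Subgroup.map (QuotientGroup.mk' N)) hg
  rw [map_comap_eq_self_of_surjective hf, Subgroup.map_map] at h2
  have h3 : (QuotientGroup.mk' N).comp (MulAut.conj g).toMonoidHom =
      (MulAut.conj (QuotientGroup.mk' N g)).toMonoidHom.comp (QuotientGroup.mk' N) :=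
    MonoidHom.ext fun x => by simp
  rw [h3, ← Subgroup.map_map, map_comap_eq_self_of_surjective hf] at h2
  exact h2

/-- All involutions are conjugate. -/
theorem EC.conj_involution (h : EC X) {a b : X} (ha : orderOf a = 2) (hb : orderOf b = 2) :
    ∃ g : X, g * a * g⁻¹ = b := by
  obtain ⟨g, hg⟩ := h (zpowers a) (zpowers b) (by rw [Nat.card_zpowers, Nat.card_zpowers, ha, hb])
  refine ⟨g, ?_⟩
  have hmem : MulAut.conj g a ∈ zpowers b := hg ▸ ⟨a, mem_zpowers a, rfl⟩
  obtain ⟨k, hk⟩ := mem_zpowers_iff.1 hmem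
  rw [MulAut.conj_apply] at hk
  rw [← zpow_mod_orderOf, hb] at hk
  rcases Int.emod_two_eq_zero_or_one k with h0 | h1
  · rw [Nat.cast_ofNat, h0, zpow_zero] at hk
    rw [eq_comm, conj_eq_one_iff] at hk
    simp [hk] at ha
  · rw [Nat.cast_ofNat, h1, zpow_one] at hk
    exact hk.symm

/-- With trivial odd core, nontrivial normal subgroups have even order. -/
theorem exists_involution_of_normal (hO : Cfsg.oddCore X = ⊥) {N : Subgroup X} [N.Normal]
    (hN : N ≠ ⊥) : ∃ x ∈ N, orderOf x = 2 := by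
  haveI : Fact (Nat.Prime 2) := ⟨Nat.prime_two⟩
  by_cases h2 : 2 ∣ Nat.card N
  · obtain ⟨x, hx⟩ := exists_prime_orderOf_dvd_card' 2 h2
    exact ⟨x, x.2, by rw [Subgroup.orderOf_coe, hx]⟩
  · exact absurd (le_bot_iff.1 ((Cores.le_pPrimeCore_of_not_dvd h2).trans (le_of_eq hO))) hN

/-- With trivial odd core and conjugate involutions, a nontrivial normal subgroup has all of them. -/
theorem EC.involution_mem (h : EC X) (hO : Cfsg.oddCore X = ⊥) {N : Subgroup X} [hN : N.Normal]
    (hNb : N ≠ ⊥) {b : X} (hb : orderOf b = 2) : b ∈ N := by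
  obtain ⟨a, haN, ha⟩ := exists_involution_of_normal hO hNb
  obtain ⟨g, rfl⟩ := h.conj_involution ha hb
  exact hN.conj_mem a haN g

/-- A central Sylow 2-subgroup of a normal subgroup of a group with trivial odd core is all of it. -/
theorem eq_of_central (hO : Cfsg.oddCore X = ⊥) {C T : Subgroup X} [C.Normal] (hTC : T ≤ C)
    (hc : ∀ t ∈ T, ∀ c ∈ C, t * c = c * t) (h2 : IsPGroup 2 T)
    (hodd : Odd (T.relIndex C)) : C = T := by
  haveI : Fact (Nat.Prime 2) := ⟨Nat.prime_two⟩
  set T' := T.subgroupOf C with hT'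
  haveI : T'.Normal := ⟨fun t ht c => by
    have h1 : (t : X) * c = c * t := hc t ht c c.2
    have h2 : c * t * c⁻¹ = t := Subtype.ext (by simp [← h1])
    rw [h2]; exact ht⟩
  obtain ⟨k, hk⟩ := IsPGroup.iff_card.1 h2
  have hT'c : Nat.card T' = 2 ^ k := by
    rw [Nat.card_congr (subgroupOfEquivOfLe hTC).toEquiv, hk]
  obtain ⟨H, hH⟩ := exists_right_complement'_of_coprime (N := T')
    (by rw [hT'c]; exact Nat.Coprime.pow_left k hodd.coprime_two_left)
  haveI : H.Normal := ⟨fun x hx c => by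
    obtain ⟨⟨a, b⟩, hab, -⟩ := hH.existsUnique c
    have hxa : (a : C) * (b * x * (b : C)⁻¹) * (a : C)⁻¹ = b * x * (b : C)⁻¹ := by
      apply Subtype.ext
      have := hc ((a : C) : X) a.2 _ ((b : C) * x * (b : C)⁻¹).2
      push_cast at this ⊢
      rw [this]
      group
    have hcc : c * x * c⁻¹ = (a : C) * (b * x * (b : C)⁻¹) * (a : C)⁻¹ := by
      rw [← hab]; group
    rw [hcc, hxa]
    exact H.mul_mem (H.mul_mem b.2 hx) (H.inv_mem b.2)⟩
  have hHc : ¬ 2 ∣ Nat.card H := by
    rw [← hH.symm.index_eq_card]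
    exact hodd.not_two_dvd_nat
  have hH0 : H ≤ ⊥ := by
    have h1 : H ≤ Cfsg.pPrimeCore 2 C := Cores.le_pPrimeCore_of_not_dvd hHc
    have h3 : (Cfsg.pPrimeCore 2 C).map C.subtype ≤ ⊥ := by
      haveI := Cores.normal_map_subtype C (Cfsg.pPrimeCore 2 C)
      refine le_trans (Cores.le_pPrimeCore_of_not_dvd ?_) (le_of_eq hO)
      rw [Subgroup.card_map_of_injective C.subtype_injective]
      exact Cores.not_dvd_card_pPrimeCore 2
    intro x hx
    have := h3 ⟨x, h1 hx, rfl⟩
    rw [Subgroup.mem_bot] at this ⊢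
    exact Subtype.ext this
  rw [le_bot_iff.1 hH0] at hH
  have : T' = ⊤ := by simpa using hH
  exact le_antisymm (subgroupOf_eq_top.1 this) hTC

/-- An involution commuting with an element of odd prime order inverted by an involution. -/
theorem EC.no_dihedral (h : EC X) {r : ℕ} (hr : r.Prime) (hr2 : r ≠ 2) {u x w : X}
    (hu : orderOf u = 2) (hx : orderOf x = r) (hux : Commute u x) (hw : orderOf w = 2)
    (hinv : w * x * w⁻¹ = x⁻¹) : False := by
  have hco : (orderOf u).Coprime (orderOf x) := by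
    rw [hu, hx]; exact (Nat.coprime_primes Nat.prime_two hr).2 (Ne.symm hr2)
  have hz : orderOf (u * x) = 2 * r := by
    rw [hux.orderOf_mul_eq_mul_orderOf_of_coprime hco, hu, hx]
  set D := zpowers w ⊔ zpowers x
  have hle : zpowers w ≤ normalizer ((zpowers x : Subgroup X) : Set X) := by
    rw [zpowers_le, mem_normalizer_iff]
    intro y
    have hxx : ∀ z ∈ zpowers x, w * z * w⁻¹ ∈ zpowers x := by
      intro z hz
      obtain ⟨k, rfl⟩ := mem_zpowers_iff.1 hz
      rw [← conj_zpow, hinv]
      exact zpow_mem (inv_mem (mem_zpowers x)) k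
    refine ⟨hxx y, fun hy => ?_⟩
    have := hxx _ hy
    have hw1 : w * w = 1 := by rw [← pow_two, ← hw, pow_orderOf_eq_one]
    have hwi : w⁻¹ = w := inv_eq_of_mul_eq_one_right hw1
    rw [hwi] at this
    simpa [mul_assoc, ← mul_assoc w w, hw1] using this
  have hD : Nat.card D = 2 * r := by
    apply le_antisymm
    · have h1 := Set.natCard_mul_le (s := ((zpowers w : Subgroup X) : Set X))
        (t := ((zpowers x : Subgroup X) : Set X))
      rw [← coe_mul_of_left_le_normalizer_right _ _ hle] at h1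
      refine le_trans h1 (le_of_eq ?_)
      show Nat.card (zpowers w) * Nat.card (zpowers x) = 2 * r
      rw [Nat.card_zpowers, Nat.card_zpowers, hw, hx]
    · refine Nat.le_of_dvd Nat.card_pos (Nat.Coprime.mul_dvd_of_dvd_of_dvd ?_ ?_ ?_)
      · exact (Nat.coprime_primes Nat.prime_two hr).2 (Ne.symm hr2)
      · rw [← hw, ← Nat.card_zpowers]; exact card_dvd_of_le le_sup_left
      · rw [← hx, ← Nat.card_zpowers]; exact card_dvd_of_le le_sup_right
  obtain ⟨g, hg⟩ := h (zpowers (u * x)) D (by rw [Nat.card_zpowers, hz, hD])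
  obtain ⟨a, ha, hwa⟩ : w ∈ (zpowers (u * x)).map (MulAut.conj g).toMonoidHom :=
    hg ▸ mem_sup_left (mem_zpowers w)
  obtain ⟨b, hb, hxb⟩ : x ∈ (zpowers (u * x)).map (MulAut.conj g).toMonoidHom :=
    hg ▸ mem_sup_right (mem_zpowers x)
  have hab : Commute a b := by
    obtain ⟨i, rfl⟩ := mem_zpowers_iff.1 ha
    obtain ⟨j, rfl⟩ := mem_zpowers_iff.1 hb
    exact Commute.zpow_zpow_self _ i j
  have hwx : Commute w x := by
    rw [← hwa, ← hxb]; exact hab.map _
  rw [hwx.eq, mul_inv_cancel_right] at hinv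
  have h2 : orderOf x ∣ 2 := orderOf_dvd_of_pow_eq_one (by rw [pow_two]; nth_rewrite 2 [hinv]; exact mul_inv_cancel x)
  rw [hx] at h2
  exact hr2 ((Nat.prime_dvd_prime_iff_eq hr Nat.prime_two).1 h2)

end Cfsg.Agent.Lib.EqualConj4
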