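import Cfsg.Agent.Lib.EqualConj4.Simple
import Cfsg.Agent.Lib.BenderConsumers23.Simple
import Cfsg.Agent.Lib.BenderOne.Final
import Cfsg.Agent.Lib.Involutions.BaerSuzuki

/-!
The normaliser of the elementary Sylow 2-subgroup is strongly embedded in the simple normal
subgroup, which is therefore `PSL(2, 2ⁿ)` by Bender's theorem.
-/

set_option autoImplicit false
set_option linter.style.haveILetI false

universe u

namespace Cfsg.Agent.Lib.EqualConj4

open Subgroup MulAction
open Cfsg.Agent.Lib.Involutions.Basic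

variable {X : Type u} [Group X] [Finite X]

/-- An involution of the Sylow subgroup has its centraliser in the normaliser. -/
theorem EC.centralizer_le_normalizer (h : EC X) (T : Sylow 2 X)
    (hel : Cfsg.IsElementaryAbelian 2 (T : Subgroup X)) {u : X} (huT : u ∈ (T : Subgroup X))
    (hu : orderOf u = 2) :
    centralizer ({u} : Set X) ≤ normalizer ((T : Subgroup X) : Set X) := by
  haveI : Fact (Nat.Prime 2) := ⟨Nat.prime_two⟩
  set C := centralizer ({u} : Set X)
  have hTC : (T : Subgroup X) ≤ C := fun x hx => mem_centralizer_singleton_iff.2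
    (congrArg Subtype.val (hel.1.is_comm.comm (⟨x, hx⟩ : (T : Subgroup X)) ⟨u, huT⟩))
  let TC : Sylow 2 C := T.subtype hTC
  have hle : (TC : Subgroup C) ≤ Cfsg.pCore 2 C := by
    intro t ht
    rcases eq_or_ne t 1 with rfl | ht1
    · exact one_mem _
    have htT : (t : X) ∈ (T : Subgroup X) := by
      have : t ∈ (T : Subgroup X).subgroupOf C := by rw [← Sylow.coe_subtype T hTC]; exact ht
      exact mem_subgroupOf.1 this
    have ht2 : orderOf t = 2 := by
      rw [← Subgroup.orderOf_coe]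
      exact orderOf_eq_two_of_mem hel htT fun e => ht1 (Subtype.ext e)
    by_contra hcore
    obtain ⟨x, hx1, hxo, hinv⟩ := Involutions.BaerSuzuki.exists_odd_inverted t ht2
      (fun N hN hN2 htN => hcore (Cores.le_pCore (hN := hN) hN2 htN))
    set r := (orderOf x).minFac
    have hne : orderOf x ≠ 1 := fun e => hx1 (orderOf_eq_one_iff.1 e)
    have hr : r.Prime := Nat.minFac_prime hne
    have hr2 : r ≠ 2 := fun e =>
      hxo.not_two_dvd_nat ((dvd_of_eq e.symm).trans (Nat.minFac_dvd _))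
    set y := x ^ (orderOf x / r)
    have hy : orderOf (y : X) = r := by
      rw [Subgroup.orderOf_coe]
      exact orderOf_pow_orderOf_div (orderOf_pos x).ne' (Nat.minFac_dvd _)
    have hinv' : t * y * t⁻¹ = y⁻¹ := by rw [← conj_pow, hinv, inv_pow]
    exact h.no_dihedral hr hr2 hu hy (mem_centralizer_singleton_iff.1 y.2).symm
      (by rw [Subgroup.orderOf_coe, ht2])
      (by simpa using congrArg Subtype.val hinv')
  have heq : Cfsg.pCore 2 C = (TC : Subgroup C) :=
    TC.is_maximal' (Cores.pCore_isPGroup 2) hle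
  haveI : (Cfsg.pCore 2 C).Characteristic :=
    Subgroup.characteristic_iff_map_eq.2 fun e => Cores.map_pCore_equiv e
  have hn : ((T : Subgroup X).subgroupOf C).Normal := by
    rw [← Sylow.coe_subtype T hTC, ← heq]
    infer_instance
  exact (normal_subgroupOf_iff_le_normalizer hTC).1 hn

/-- The simple normal subgroup is `PSL(2, |T|)`. -/
theorem psl_of_simple (h : EC X) (T : Sylow 2 X) (hel : Cfsg.IsElementaryAbelian 2 (T : Subgroup X))
    (hnot : ¬ (T : Subgroup X).Normal) {n : ℕ} (hn : 2 ≤ n) (hcard : Nat.card T = 2 ^ n)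
    (M : Subgroup X) [hMn : M.Normal] (hTM : (T : Subgroup X) ≤ M) [IsSimpleGroup M]
    (hnc : ¬ IsMulCommutative M) :
    ∃ (F : Type) (_ : Field F) (_ : Fintype F), Fintype.card F = 2 ^ n ∧
      Nonempty (M ≃* Matrix.ProjectiveSpecialLinearGroup (Fin 2) F) := by
  haveI : Fact (Nat.Prime 2) := ⟨Nat.prime_two⟩
  let TM : Sylow 2 M := T.subtype hTM
  have hTMc : (TM : Subgroup M) = (T : Subgroup X).subgroupOf M := Sylow.coe_subtype T hTM
  have hcardM : Nat.card (TM : Subgroup M) = 2 ^ n := by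
    rw [hTMc, Nat.card_congr (subgroupOfEquivOfLe hTM).toEquiv]; exact hcard
  have hmemT : ∀ {x : M}, x ∈ (TM : Subgroup M) ↔ (x : X) ∈ (T : Subgroup X) := fun {x} => by
    rw [hTMc, mem_subgroupOf]
  have hcommM : IsMulCommutative (TM : Subgroup M) := ⟨⟨fun a b => Subtype.ext (Subtype.ext (by
    simpa using congrArg Subtype.val (hel.1.is_comm.comm
      (⟨_, hmemT.1 a.2⟩ : (T : Subgroup X)) ⟨_, hmemT.1 b.2⟩)))⟩⟩
  haveI := hcommM
  set H := normalizer ((TM : Subgroup M) : Set M) with hH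
  -- `2`-subgroups of `H` lie in `TM`
  have hpH : ∀ P : Subgroup M, IsPGroup 2 P → P ≤ H → P ≤ (TM : Subgroup M) := by
    intro P hP hPH
    exact TM.is_maximal' (hP.to_sup_of_normal_right' TM.isPGroup' hPH) le_sup_right ▸ le_sup_left
  have hinvH : ∀ {x : M}, x ∈ H → orderOf x = 2 → x ∈ (TM : Subgroup M) := fun {x} hx hx2 =>
    hpH (zpowers x) (IsPGroup.of_card (n := 1) (by rw [Nat.card_zpowers, hx2, pow_one]))
      (zpowers_le.2 hx) (mem_zpowers x)
  have hHtop : H ≠ ⊤ := fun htop => by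
    have hnTM : (TM : Subgroup M).Normal := normalizer_eq_top_iff.1 htop
    rcases IsSimpleGroup.eq_bot_or_eq_top_of_normal _ hnTM with h1 | h1
    · rw [h1, Subgroup.card_bot] at hcardM
      have := Nat.one_lt_two_pow (n := n) (by omega)
      omega
    · rw [hTMc, subgroupOf_eq_top] at h1
      exact hnot (le_antisymm hTM h1 ▸ hMn)
  have heven : Even (Nat.card H) := by
    rw [even_iff_two_dvd]
    refine dvd_trans ?_ (card_dvd_of_le (le_normalizer (H := (TM : Subgroup M))))
    rw [hcardM]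
    exact dvd_pow_self 2 (by omega)
  have hSE : Cfsg.IsStronglyEmbedded H := by
    refine (Involutions.StronglyEmbedded.isStronglyEmbedded_iff_fusion hHtop heven).2 ⟨?_, ?_⟩
    · intro t ht ht2 g hg
      have htT := hmemT.1 (hinvH ht ht2)
      have hgN := h.centralizer_le_normalizer T hel htT (by rw [Subgroup.orderOf_coe, ht2])
        (mem_centralizer_singleton_iff.2
          (congrArg Subtype.val (mem_centralizer_singleton_iff.1 hg) :))
      rw [hH, mem_normalizer_iff]
      intro y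
      rw [hmemT, hmemT]
      simpa using mem_normalizer_iff.1 hgN (y : X)
    · intro t ht s hs ht2 hs2 hts
      obtain ⟨g, hg⟩ := isConj_iff.1 hts
      obtain ⟨k, hk, hkt⟩ := Sylow.conj_eq_normalizer_conj_of_mem TM t g⁻¹ (hinvH ht ht2)
        (by rw [inv_inv, hg]; exact hinvH hs hs2)
      exact ⟨k⁻¹, inv_mem hk, by rw [inv_inv, ← hkt, inv_inv, hg]⟩
  -- Bender's theorem
  have hna := BenderConsumers23.na_of_not_comm hnc
  obtain ⟨t, Q, hh, hg⟩ := BenderConsumers23.good BenderOne.propPartOneFinal BenderSuzuki.propMain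
    hSE (BenderConsumers23.twoRank_of_simple hna hSE) (BenderConsumers23.normalCore_eq_bot hSE)
  have hS := hh.setup
  have hst : stabilizer M ((1 : M) : M ⧸ H) = H := MulAction.stabilizer_quotient H
  obtain ⟨hQ2, L, hL, -, hQL, -, hcase⟩ := hg
  have hQT : Q ≤ (TM : Subgroup M) := hpH Q hQ2 (hst ▸ hS.le)
  have hq : BenderSuzuki.qNum M ((1 : M) : M ⧸ H) = 2 ^ n := by
    have hI : BenderSuzuki.invs M ((1 : M) : M ⧸ H) = ((TM : Subgroup M) : Set M) \ {1} := by
      ext x
      constructor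
      · rintro ⟨h1, h2, h3⟩
        exact ⟨hinvH (hst ▸ h1) (orderOf_eq_prime (by rw [pow_two]; exact h3) h2), h2⟩
      · rintro ⟨h1, h2⟩
        refine ⟨hst.symm ▸ le_normalizer h1, h2, ?_⟩
        exact Subtype.ext (by simpa [pow_two] using hel.2 _ (hmemT.1 h1))
    rw [BenderSuzuki.qNum, hI, Nat.card_coe_set_eq,
      Set.ncard_sdiff_singleton_of_mem (one_mem _), ← Nat.card_coe_set_eq]
    have : Nat.card ↥((TM : Subgroup M) : Set M) = 2 ^ n := hcardM
    have := Nat.one_lt_two_pow (n := n) (by omega)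
    omega
  have hLtop : L = ⊤ := (Subgroup.Normal.eq_bot_or_eq_top hL).resolve_left fun hb => by
    have := hS.even_card
    rw [hb, le_bot_iff] at hQL
    rw [hQL, Subgroup.card_bot] at this
    exact Nat.not_even_one this
  subst hLtop
  have hQle : Nat.card Q ≤ 2 ^ n := hcardM ▸ Subgroup.card_le_of_le hQT
  have h2n := Nat.one_lt_two_pow (n := n) (by omega)
  rcases hcase with ⟨-, -, F, i, j, hF, -, ⟨f⟩⟩ | ⟨hc, -, -⟩ | ⟨hc, -, -⟩
  · exact ⟨F, i, j, hF.trans hq, ⟨Subgroup.topEquiv.symm.trans f⟩⟩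
  · rw [hc, hq] at hQle
    have : 2 ^ n * 2 ≤ (2 ^ n) ^ 2 := by rw [pow_two]; exact Nat.mul_le_mul_left _ h2n
    omega
  · rw [hc, hq] at hQle
    have : 2 ^ n * 2 ≤ (2 ^ n) ^ 3 := by
      rw [pow_succ' (2 ^ n) 2]
      exact Nat.mul_le_mul_left _ (h2n.trans_le (Nat.le_self_pow two_ne_zero _))
    omega

end Cfsg.Agent.Lib.EqualConj4
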