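import Cfsg.Agent.Lib.EqualConj4.Known
import Cfsg.Agent.Lib.EqualConj4.Embedded

/-!
Trivial odd core and an elementary abelian Sylow 2-subgroup.
-/

set_option autoImplicit false
set_option linter.style.haveILetI false

universe u

namespace Cfsg.Agent.Lib.EqualConj4

open Subgroup

variable {X : Type u} [Group X] [Finite X]

local notation "PSL2[" F "]" => Matrix.ProjectiveSpecialLinearGroup (Fin 2) F

/-- `PSL(2, 4)`. -/
theorem outcome_of_four (T : Sylow 2 X) (M : Subgroup X) [hMn : M.Normal]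
    (hTM : (T : Subgroup X) ≤ M) (hC : centralizer (M : Set X) = ⊥) [IsSimpleGroup M] (F : Type)
    [Field F] [Fintype F] (hF : Fintype.card F = 2 ^ 2)
    (e : M ≃* PSL2[F]) : Outcome 2 X := by
  haveI : Fact (Nat.Prime 2) := ⟨Nat.prime_two⟩
  have hgcd : Nat.gcd 2 (Fintype.card F - 1) = 1 := by rw [hF]; rfl
  have hpsl : Nat.card PSL2[F] = 60 := by
    have := Linear.gcd_mul_card_PSL_two (F := F)
    rw [hgcd, hF] at this
    omega
  have hM : Nat.card M = 60 := by rw [Nat.card_congr e.toEquiv, hpsl]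
  have hAut : Nat.card (MulAut M) = 120 := by
    rw [Nat.card_congr (MulAut.congr e).toEquiv, card_mulAut F (p := 2) (f := 2) hF, hgcd, hpsl]
  set φ : X →* MulAut M := MulAut.conjNormal
  have hφ : Function.Injective φ := by
    rw [← MonoidHom.ker_eq_bot_iff, eq_bot_iff, ← hC]
    intro x hx
    rw [MonoidHom.mem_ker] at hx
    rw [mem_centralizer_iff]
    intro a ha
    have h1 : ((φ x ⟨a, ha⟩ : M) : X) = a := by rw [hx]; rfl
    rw [MulAut.conjNormal_apply] at h1
    calc a * x = x * a * x⁻¹ * x := by rw [h1]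
      _ = x * a := by rw [inv_mul_cancel_right]
  have h2 : M.index ∣ 2 := by
    have h1 := Subgroup.card_dvd_of_injective φ hφ
    rw [hAut, ← M.card_mul_index, hM] at h1
    exact Nat.dvd_of_mul_dvd_mul_left (by norm_num : 0 < 60) h1
  have h1 : M.index = 1 :=
    ((Nat.dvd_prime Nat.prime_two).1 h2).resolve_right fun h2 => by
      have := index_odd_of_sylow_le hTM
      rw [h2] at this
      exact Nat.not_odd_iff_even.2 even_two this
  refine Or.inl ⟨rfl, Or.inr ?_⟩
  obtain ⟨g⟩ := Cfsg.Agent.S0494.result (G := M) hM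
  rw [index_eq_one] at h1
  exact ⟨(Subgroup.topEquiv.symm.trans (MulEquiv.subgroupCongr h1.symm)).trans g⟩

/-- Trivial odd core and an elementary Sylow 2-subgroup of order at least four. -/
theorem outcome_of_elementary (h : EC X) (hO : Cfsg.oddCore X = ⊥)
    (T : Sylow 2 X) (hel : Cfsg.IsElementaryAbelian 2 (T : Subgroup X)) {n : ℕ} (hn : 2 ≤ n)
    (hcard : Nat.card T = 2 ^ n) : Outcome n X := by
  by_cases hTn : (T : Subgroup X).Normal
  · exact outcome_of_normal h hO T hel hn hcard
  obtain ⟨M, hMn, hs, hnc, hTM, hC⟩ := exists_simple h hO T hel hTn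
  haveI := hMn
  haveI := hs
  obtain ⟨F, iF, iF', hF, ⟨e⟩⟩ := psl_of_simple h T hel hTn hn hcard M hTM hnc
  rcases Nat.lt_or_ge n 3 with h3 | h3
  · obtain rfl : n = 2 := by omega
    exact outcome_of_four T M hTM hC F hF e
  · exact outcome_of_even h hO T hel hcard M hTM hC F h3 hF e

end Cfsg.Agent.Lib.EqualConj4
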