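import Cfsg.Agent.Lib.EqualConj4.Simple
import Cfsg.Agent.Lib.DicksonId.MaxCommon
import Cfsg.Agent.Lib.AutPSL.Card
import Cfsg.Agent.Lib.Linear.Order
import Cfsg.Agent.Lib.SmallGroups.ProjLine
import Cfsg.Agent.S0494

/-!
The simple normal subgroup is `PSL(2, 2ⁿ)`, `n ≥ 3`: identification.
-/

set_option autoImplicit false
set_option linter.style.haveILetI false

universe u

namespace Cfsg.Agent.Lib.EqualConj4

open Subgroup

variable {X : Type u} [Group X] [Finite X]

local notation "PSL2[" F "]" => Matrix.ProjectiveSpecialLinearGroup (Fin 2) F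

/-- `Aut(PSL(2, q))`. -/
theorem card_mulAut (F : Type) [Field F] [Fintype F] {p f : ℕ} [Fact p.Prime]
    (hF : Fintype.card F = p ^ f) :
    Nat.card (MulAut PSL2[F]) = f * (Nat.gcd 2 (Fintype.card F - 1) * Nat.card PSL2[F]) := by
  haveI : CharP F p := by
    obtain ⟨q, hq⟩ := CharP.exists F
    obtain ⟨k, hqp, hk⟩ := FiniteField.card F q
    have hf : f ≠ 0 := fun h => by
      have := Fintype.one_lt_card (α := F)
      rw [hF, h] at this
      simp at this
    have h1 : q ∣ p ^ f := by rw [← hF, hk]; exact dvd_pow_self _ k.ne_zero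
    rwa [← (Nat.prime_dvd_prime_iff_eq hqp Fact.out).1 (hqp.dvd_of_dvd_pow h1)]
  rw [AutPSL.card_mulAut_PSL hF le_rfl, if_pos rfl, one_mul, Linear.card_PGL_eq_card_SL,
    Linear.gcd_mul_card_PSL_two, Linear.card_SL_two]

/-- The Frobenius automorphism has order five. -/
theorem five_dvd_card_semiaffine :
    5 ∣ Nat.card (Cfsg.semiaffineGroup (GaloisField 2 5)) := by
  haveI : Fact (Nat.Prime 2) := ⟨Nat.prime_two⟩
  haveI : Fact (Nat.Prime 5) := ⟨by norm_num⟩
  let F5 := GaloisField 2 5
  letI : Fintype F5 := Fintype.ofFinite F5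
  have hc : Fintype.card F5 = 32 := by
    rw [← Nat.card_eq_fintype_card, GaloisField.card 2 5 (by norm_num)]; norm_num
  let σ : Equiv.Perm F5 := (frobeniusEquiv F5 2).toEquiv
  have hmem : σ ∈ Cfsg.semiaffineGroup F5 :=
    ⟨1, 0, frobeniusEquiv F5 2, fun x => by simp [σ]⟩
  have hσ : ∀ (k : ℕ) (x : F5), (σ ^ k) x = x ^ 2 ^ k := fun k => by
    induction k with
    | zero => simp
    | succ k ih =>
      intro x
      rw [pow_succ', Equiv.Perm.mul_apply, ih]
      show frobeniusEquiv F5 2 (x ^ 2 ^ k) = _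
      rw [frobeniusEquiv_apply, frobenius_def, ← pow_mul, ← pow_succ]
  have h1 : orderOf σ = 5 := by
    refine orderOf_eq_prime (Equiv.ext fun x => ?_) fun h1 => ?_
    · rw [hσ, Equiv.Perm.one_apply]
      exact (congrArg (x ^ ·) hc.symm).trans (FiniteField.pow_card x)
    · obtain ⟨u, hu⟩ := IsCyclic.exists_generator (α := F5ˣ)
      have hu2 := hσ 1 u
      rw [pow_one, h1, Equiv.Perm.one_apply, pow_one] at hu2
      have h3 : orderOf u ∣ 1 := by
        refine orderOf_dvd_of_pow_eq_one (Units.ext ?_)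
        rw [pow_one, Units.val_one]
        exact mul_left_cancel₀ u.ne_zero (by rw [mul_one, ← pow_two, ← hu2])
      rw [orderOf_eq_card_of_forall_mem_zpowers hu, Nat.card_units, Nat.card_eq_fintype_card, hc] at h3
      norm_num at h3
  exact (dvd_of_eq h1.symm).trans (Subgroup.orderOf_dvd_natCard _ hmem)

theorem index_odd_of_sylow_le {T : Sylow 2 X} {M : Subgroup X} (hTM : (T : Subgroup X) ≤ M) :
    Odd M.index :=
  (odd_index_sylow T).of_dvd_nat (Subgroup.index_dvd_of_le hTM)

/-- `PSL(2, q)`, `q` even. -/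
theorem outcome_of_even (h : EC X) (hO : Cfsg.oddCore X = ⊥) (T : Sylow 2 X)
    (hel : Cfsg.IsElementaryAbelian 2 (T : Subgroup X)) {n : ℕ} (hcard : Nat.card T = 2 ^ n)
    (M : Subgroup X) [hMn : M.Normal] (hTM : (T : Subgroup X) ≤ M)
    (hC : centralizer (M : Set X) = ⊥) {m : ℕ} (F : Type) [Field F] [Fintype F] (hm : 3 ≤ m)
    (hF : Fintype.card F = 2 ^ m) (e : M ≃* PSL2[F]) : Outcome n X := by
  haveI : Fact (Nat.Prime 2) := ⟨Nat.prime_two⟩
  haveI : CharP F 2 := by
    obtain ⟨q, hq⟩ := CharP.exists F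
    obtain ⟨k, hqp, hk⟩ := FiniteField.card F q
    have h1 : q ∣ 2 ^ m := by rw [← hF, hk]; exact dvd_pow_self _ k.ne_zero
    rwa [← (Nat.prime_dvd_prime_iff_eq hqp Nat.prime_two).1 (hqp.dvd_of_dvd_pow h1)]
  have h2m : 2 ∣ 2 ^ m := dvd_pow_self _ (by omega)
  have h2m' : 8 ≤ 2 ^ m := (pow_le_pow_right₀ (by norm_num : 1 ≤ 2) hm : 2 ^ 3 ≤ 2 ^ m)
  have hgcd : Nat.gcd 2 (Fintype.card F - 1) = 1 :=
    ((Nat.prime_two.coprime_iff_not_dvd).2 (by rw [hF]; omega) : Nat.Coprime 2 _)
  have hpsl : Nat.card PSL2[F] = 2 ^ m * ((2 ^ m - 1) * (2 ^ m + 1)) := by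
    have := DicksonId.card_PSL_mul (F := F) (p := 2)
    rw [hgcd, one_mul, hF] at this
    exact this
  -- the Sylow subgroup of the simple group
  let T' : Sylow 2 PSL2[F] := (T.subtype hTM).mapSurjective (f := e.toMonoidHom) e.surjective
  have hT' : Nat.card (T' : Subgroup PSL2[F]) = 2 ^ n := by
    show Nat.card ((((T.subtype hTM : Sylow 2 M) : Subgroup M)).map e.toMonoidHom) = 2 ^ n
    rw [Subgroup.card_map_of_injective (f := e.toMonoidHom) e.injective, Sylow.coe_subtype, ← hcard]
    exact Nat.card_congr (subgroupOfEquivOfLe hTM).toEquiv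
  obtain rfl : n = m := by
    have h1 := T'.card_eq_multiplicity
    rw [hT', hpsl, Nat.factorization_mul (by omega) (Nat.mul_ne_zero (by omega) (by omega)),
      Nat.factorization_mul (by omega) (by omega), Finsupp.add_apply, Finsupp.add_apply,
      Nat.factorization_eq_zero_of_not_dvd (show ¬ 2 ∣ 2 ^ m - 1 by omega),
      Nat.factorization_eq_zero_of_not_dvd (show ¬ 2 ∣ 2 ^ m + 1 by omega),
      Nat.factorization_pow_self Nat.prime_two, add_zero] at h1
    exact Nat.pow_right_injective le_rfl h1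
  refine Or.inr ⟨hm, ?_⟩
  -- the normaliser of the Sylow subgroup
  set N := normalizer ((T : Subgroup X) : Set X) with hN
  haveI hTN : ((T.subtype (show (T : Subgroup X) ≤ N from le_normalizer) : Sylow 2 N) :
      Subgroup N).Normal := by
    rw [Sylow.coe_subtype]
    exact normal_in_normalizer
  haveI hsolv : Group.IsSolvable N := by
    refine isSolvable_of_normal (T := T.subtype (show (T : Subgroup X) ≤ N from le_normalizer)) ?_
    rw [Sylow.coe_subtype]
    refine ⟨⟨fun a b => Subtype.ext (Subtype.ext ?_)⟩⟩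
    have := congrArg Subtype.val (hel.1.is_comm.comm (⟨_, a.2⟩ : (T : Subgroup X)) ⟨_, b.2⟩)
    simpa using this
  have h4025 := Cfsg.Agent.S4025.result (fun H K _ _ hHK => h H K hHK) T n hm hel hcard N hN inferInstance
  -- `X` embeds in `Aut M`
  set φ : X →* MulAut M := MulAut.conjNormal
  have hφ : Function.Injective φ := by
    rw [← MonoidHom.ker_eq_bot_iff, eq_bot_iff, ← hC]
    intro x hx
    rw [MonoidHom.mem_ker] at hx
    rw [mem_centralizer_iff]
    intro a ha
    have h1 : ((φ x ⟨a, ha⟩ : M) : X) = a := by rw [hx]; rfl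
    rw [MulAut.conjNormal_apply] at h1
    calc a * x = x * a * x⁻¹ * x := by rw [h1]
      _ = x * a := by rw [inv_mul_cancel_right]
  have hAut : Nat.card (MulAut M) = n * Nat.card M := by
    rw [Nat.card_congr (MulAut.congr e).toEquiv, card_mulAut F hF, hgcd, one_mul,
      Nat.card_congr e.toEquiv]
  have hdvd : M.index ∣ n := by
    have h1 := Subgroup.card_dvd_of_injective φ hφ
    rw [hAut, ← M.card_mul_index, mul_comm n] at h1
    exact Nat.dvd_of_mul_dvd_mul_left Nat.card_pos h1
  rcases h4025 with ⟨rfl, -, -⟩ | ⟨rfl, -, ⟨g⟩⟩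
  · -- `L₂(8)`: no extension
    have hM1 : M.index = 1 := by
      by_contra hne
      have h3 : M.index = 3 := ((Nat.dvd_prime Nat.prime_three).1 hdvd).resolve_left hne
      haveI : Fact (Nat.Prime 3) := ⟨Nat.prime_three⟩
      have hsup : N ⊔ M = ⊤ := by
        have h1 := Sylow.normalizer_sup_eq_top (N := M) (T.subtype hTM)
        rwa [Sylow.coe_subtype, map_subgroupOf_eq_of_le hTM] at h1
      have h3N : 3 ∣ Nat.card N := by
        rw [← h3, index_eq_card]
        refine Subgroup.card_dvd_of_surjective ((QuotientGroup.mk' M).comp N.subtype) fun q => ?_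
        obtain ⟨a, rfl⟩ := QuotientGroup.mk'_surjective M q
        have ha : a ∈ N ⊔ M := hsup.symm ▸ mem_top a
        rw [← SetLike.mem_coe, Subgroup.mul_normal, Set.mem_mul] at ha
        obtain ⟨b, hb, c, hc, rfl⟩ := ha
        exact ⟨⟨b, hb⟩, by simp [(QuotientGroup.eq_one_iff c).2 hc]⟩
      obtain ⟨y, hy⟩ := exists_prime_orderOf_dvd_card' 3 h3N
      have h3M : 3 ∣ Nat.card M := by
        rw [Nat.card_congr e.toEquiv, hpsl]; norm_num
      obtain ⟨x, hx⟩ := exists_prime_orderOf_dvd_card' 3 h3M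
      have hyM : (y : X) ∈ M := by
        obtain ⟨g, hg⟩ := h (zpowers (x : X)) (zpowers (y : X))
          (by rw [Nat.card_zpowers, Nat.card_zpowers, Subgroup.orderOf_coe, Subgroup.orderOf_coe, hx, hy])
        obtain ⟨a, ha, hay⟩ : (y : X) ∈ (zpowers (x : X)).map (MulAut.conj g).toMonoidHom :=
          hg ▸ mem_zpowers (y : X)
        rw [← hay]
        exact hMn.conj_mem a (zpowers_le.2 x.2 ha) g
      have hye : orderOf (e ⟨y, hyM⟩) = 3 := by
        rw [MulEquiv.orderOf_eq, ← Subgroup.orderOf_coe]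
        exact (Subgroup.orderOf_coe y).trans hy
      have hyn : e ⟨y, hyM⟩ ∈ normalizer ((T' : Subgroup PSL2[F]) : Set PSL2[F]) := by
        have hT2 : (T' : Subgroup PSL2[F]) = ((T : Subgroup X).subgroupOf M).map e.toMonoidHom := by
          show (((T.subtype hTM : Sylow 2 M) : Subgroup M)).map e.toMonoidHom = _
          rw [Sylow.coe_subtype]
        rw [mem_normalizer_iff]
        intro z
        obtain ⟨z, rfl⟩ := e.surjective z
        have hz : ∀ w : M, e w ∈ (T' : Subgroup PSL2[F]) ↔ (w : X) ∈ (T : Subgroup X) := fun w => by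
          rw [hT2, mem_map_equiv, MulEquiv.symm_apply_apply, mem_subgroupOf]
        rw [← map_inv, ← map_mul, ← map_mul, hz, hz]
        exact mem_normalizer_iff.1 y.2 z
      have h1 := DicksonId.card_normalizer_sylow (p := 2) T'
      rw [hgcd, one_mul, hF] at h1
      have h2 := Subgroup.orderOf_dvd_natCard _ hyn
      rw [hye, h1] at h2
      norm_num at h2
    rw [index_eq_one] at hM1
    letI : Fintype (GaloisField 2 3) := Fintype.ofFinite _
    obtain ⟨g⟩ := SmallGroups.ProjLine.psl_congr_card (F := F) (F' := GaloisField 2 3) (by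
      rw [hF, ← Nat.card_eq_fintype_card, GaloisField.card 2 3 (by norm_num)])
    exact Or.inr (Or.inr (Or.inr (Or.inl
      ⟨(Subgroup.topEquiv.symm.trans (MulEquiv.subgroupCongr hM1.symm)).trans (e.trans g)⟩)))
  · -- `Aut L₂(32)`
    have h5 : 5 ∣ Nat.card X := by
      refine dvd_trans ?_ ((Subgroup.card_quotient_dvd_card (Cfsg.pPrimeCore 2 N)).trans (card_subgroup_dvd_card N))
      rw [Nat.card_congr g.toEquiv]
      exact five_dvd_card_semiaffine
    have hidx : M.index = 5 := by
      refine ((Nat.dvd_prime (by norm_num)).1 hdvd).resolve_left fun h1 => ?_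
      rw [← M.card_mul_index, h1, mul_one, Nat.card_congr e.toEquiv, hpsl] at h5
      norm_num at h5
    have hbij : Function.Bijective φ := hφ.bijective_of_nat_card_le (le_of_eq (by
      rw [hAut, ← M.card_mul_index, hidx, mul_comm]))
    letI : Fintype (GaloisField 2 5) := Fintype.ofFinite _
    obtain ⟨g'⟩ := SmallGroups.ProjLine.psl_congr_card (F := F) (F' := GaloisField 2 5) (by
      rw [hF, ← Nat.card_eq_fintype_card, GaloisField.card 2 5 (by norm_num)])
    exact Or.inr (Or.inr (Or.inr (Or.inr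
      ⟨(MulEquiv.ofBijective φ hbij).trans (MulAut.congr (e.trans g'))⟩)))

end Cfsg.Agent.Lib.EqualConj4
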