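import Cfsg.Agent.Lib.EqualConj4.Elementary
import Cfsg.Agent.Lib.GWConsumers31.SolvableCase
import Cfsg.Agent.Lib.PGroups.SLTwoThree
import Cfsg.Agent.Lib.Spectrum.SL25Recognition
import Cfsg.Agent.S0201
import Cfsg.Agent.S4020

/-!
Finite groups in which any two subgroups of the same order are conjugate.
-/

set_option autoImplicit false
set_option linter.style.haveILetI false

universe u

namespace Cfsg.Agent.Lib.EqualConj4

open Subgroup

variable {X : Type u} [Group X] [Finite X]

/-- A cyclic Sylow 2-subgroup. -/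
theorem cyclic_case (hO : Cfsg.oddCore X = ⊥) (T : Sylow 2 X) (hT : IsCyclic T) :
    IsCyclic X ∧ IsPGroup 2 X := by
  haveI : Fact (Nat.Prime 2) := ⟨Nat.prime_two⟩
  suffices htop : (T : Subgroup X) = ⊤ by
    refine ⟨?_, (T.isPGroup'.of_equiv ((MulEquiv.subgroupCongr htop).trans Subgroup.topEquiv))⟩
    exact isCyclic_of_surjective
      ((MulEquiv.subgroupCongr htop).trans Subgroup.topEquiv).toMonoidHom (MulEquiv.surjective _)
  by_cases h2 : 2 ∣ Nat.card X
  · have hmin : (Nat.card X).minFac = 2 := (Nat.minFac_eq_two_iff _).2 h2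
    have hN : normalizer ((T : Subgroup X) : Set X) ≤ centralizer ((T : Subgroup X) : Set X) :=
      IsCyclic.normalizer_le_centralizer hmin hT
    have hcompl := MonoidHom.ker_transferSylow_isComplement' T hN
    set K := (MonoidHom.transferSylow T hN).ker
    have hK : ¬ 2 ∣ Nat.card K := by
      rw [← hcompl.index_eq_card]
      exact T.not_dvd_index
    have hK0 : K = ⊥ := le_bot_iff.1 ((Cores.le_pPrimeCore_of_not_dvd hK).trans (le_of_eq hO))
    rw [hK0] at hcompl
    simpa using hcompl
  · haveI : Subsingleton X := by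
      have h1 : (⊤ : Subgroup X) = ⊥ := le_bot_iff.1
        ((Cores.le_pPrimeCore_of_not_dvd (N := (⊤ : Subgroup X))
          (by rwa [Subgroup.card_top])).trans (le_of_eq hO))
      exact subsingleton_iff.1 (subsingleton_of_bot_eq_top h1.symm)
    exact Subsingleton.elim _ _

theorem quaternion_involution : ∀ a : QuaternionGroup 2,
    a ^ 2 = 1 → a = 1 ∨ a = QuaternionGroup.a 2 := by decide

theorem quaternion_pow_four : ∀ a : QuaternionGroup 2, (a ^ 2) ^ 2 = 1 := by decide

theorem not_index_two_alt {Y : Type*} [Group Y] (hY : Nonempty (Y ≃* alternatingGroup (Fin 4)))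
    (M : Subgroup Y) : M.index ≠ 2 := by
  obtain ⟨e⟩ := hY
  intro h
  have h1 : (M.map e.toMonoidHom).index = 2 := by
    rw [← h]; exact index_map_equiv (H := M) e
  set N := M.map e.toMonoidHom
  haveI : N.Normal := normal_of_index_eq_two h1
  have h12 : Nat.card N = 6 := by
    have := N.card_mul_index
    rw [h1, nat_card_alternatingGroup, Nat.card_fin] at this
    norm_num [Nat.factorial] at this
    omega
  have h3 : ∀ g : alternatingGroup (Fin 4), g ^ 2 ∈ N := fun g => by
    rw [pow_two]; exact mul_self_mem_of_index_two h1 g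
  have hsq : ∀ g : alternatingGroup (Fin 4), g ^ 3 = 1 → g ∈ N := fun g hg => by
    have h4 := h3 (g ^ 2)
    rwa [← pow_mul, pow_succ g 3, hg, one_mul] at h4
  have hcard : 9 ≤ Nat.card N := by
    have h9 : 9 ≤ Nat.card {g : alternatingGroup (Fin 4) // g ^ 3 = 1} := by
      rw [Nat.card_eq_fintype_card]; decide
    exact h9.trans (Nat.card_le_card_of_injective (fun g => (⟨g.1, hsq g.1 g.2⟩ : N))
      fun a b hab => Subtype.ext (congrArg (fun z : N => z.1) hab))
  omega

/-- A quaternion Sylow 2-subgroup. -/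
theorem quaternion_case (h : EC X) (hO : Cfsg.oddCore X = ⊥)
    (T : Sylow 2 X) (eT : (T : Subgroup X) ≃* QuaternionGroup 2) :
    Nonempty (X ≃* Matrix.SpecialLinearGroup (Fin 2) (ZMod 3)) ∨
      Nonempty (X ≃* Matrix.SpecialLinearGroup (Fin 2) (ZMod 5)) := by
  haveI : Fact (Nat.Prime 2) := ⟨Nat.prime_two⟩
  have hZ2 : Nat.card (center X) = 2 := by
    refine Cfsg.Agent.S0201.result T 0 eT (fun N hN hodd => le_bot_iff.1 ?_)
    haveI := hN
    exact (Cores.le_pPrimeCore_of_not_dvd hodd.not_two_dvd_nat).trans (le_of_eq hO)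
  set Z := center X with hZ
  have hZT : Z ≤ (T : Subgroup X) :=
    (Cores.le_pCore (IsPGroup.of_card (n := 1) (by rw [hZ2, pow_one]))).trans (Cores.pCore_le_sylow T)
  obtain ⟨z, hz⟩ := exists_prime_orderOf_dvd_card' (G := Z) 2 (by rw [hZ2])
  have hzX : orderOf (z : X) = 2 := by rw [Subgroup.orderOf_coe, hz]
  have hzz : zpowers (z : X) = Z := Subgroup.eq_of_le_of_card_ge (zpowers_le.2 z.2)
    (by rw [Nat.card_zpowers, hzX, hZ2])
  -- squares of `T` are central
  have hsq : ∀ t ∈ (T : Subgroup X), t ^ 2 ∈ Z := by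
    intro t ht
    have h4 : (eT ⟨t, ht⟩ ^ 2) ^ 2 = 1 := quaternion_pow_four _
    rcases quaternion_involution _ h4 with h1 | h1
    · rw [← map_pow, MulEquiv.map_eq_one_iff] at h1
      have := congrArg Subtype.val h1
      rw [Subgroup.coe_pow] at this
      simp only [Subgroup.coe_one] at this
      rw [this]
      exact one_mem _
    · have hzT : (z : X) ∈ (T : Subgroup X) := hZT z.2
      have hz2 : eT ⟨z, hzT⟩ ^ 2 = 1 := by
        rw [← map_pow, MulEquiv.map_eq_one_iff]
        exact Subtype.ext (by simpa [hzX] using pow_orderOf_eq_one (z : X))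
      rcases quaternion_involution _ hz2 with h2 | h2
      · rw [MulEquiv.map_eq_one_iff] at h2
        have := congrArg Subtype.val h2
        simp only [Subgroup.coe_one] at this
        rw [this, orderOf_one] at hzX
        norm_num at hzX
      · rw [← map_pow, ← h2] at h1
        have := congrArg Subtype.val (eT.injective h1)
        rw [Subgroup.coe_pow] at this
        simp only at this
        rw [this]
        exact z.2
  -- the quotient
  let Tb : Sylow 2 (X ⧸ Z) := T.mapSurjective (QuotientGroup.mk'_surjective Z)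
  have hTb : Nat.card (Tb : Subgroup (X ⧸ Z)) = 4 := by
    show Nat.card ((T : Subgroup X).map (QuotientGroup.mk' Z)) = 4
    have h1 := Subgroup.card_mul_index (Z.subgroupOf (T : Subgroup X))
    have h8 : Nat.card (T : Subgroup X) = 8 := by
      rw [Nat.card_congr eT.toEquiv, Nat.card_eq_fintype_card, QuaternionGroup.card]
    rw [Nat.card_congr (subgroupOfEquivOfLe hZT).toEquiv, hZ2, h8] at h1
    have h2 : Nat.card ((T : Subgroup X).map (QuotientGroup.mk' Z)) =
        Z.relIndex (T : Subgroup X) := by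
      have h3 := (T : Subgroup X).relIndex_ker (QuotientGroup.mk' Z)
      rw [QuotientGroup.ker_mk'] at h3
      exact h3.symm
    rw [h2]
    show (Z.subgroupOf (T : Subgroup X)).index = 4
    omega
  have helb : Cfsg.IsElementaryAbelian 2 (Tb : Subgroup (X ⧸ Z)) := by
    have he : ∀ a ∈ (Tb : Subgroup (X ⧸ Z)), a ^ 2 = 1 := by
      rintro _ ⟨t, ht, rfl⟩
      rw [← map_pow, QuotientGroup.mk'_apply, QuotientGroup.eq_one_iff]
      exact hsq t ht
    exact ⟨IsPGroup.isMulCommutative_of_card_eq_prime_sq (p := 2) (by rw [hTb]; norm_num), he⟩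
  have hOb : Cfsg.oddCore (X ⧸ Z) = ⊥ := by
    set O := Cfsg.oddCore (X ⧸ Z)
    set C := O.comap (QuotientGroup.mk' Z)
    have hZC : Z ≤ C := fun x hx => by
      show QuotientGroup.mk' Z x ∈ O
      rw [QuotientGroup.mk'_apply, (QuotientGroup.eq_one_iff x).2 hx]
      exact one_mem _
    have hCeq : C = Z := by
      refine eq_of_central hO hZC (fun t ht c _ => (Subgroup.mem_center_iff.1 ht c).symm)
        (IsPGroup.of_card (n := 1) (by rw [hZ2, pow_one])) ?_
      have h1 : Z.relIndex C = Nat.card O := by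
        have h3 := C.relIndex_ker (QuotientGroup.mk' Z)
        rw [QuotientGroup.ker_mk',
          map_comap_eq_self_of_surjective (QuotientGroup.mk'_surjective Z)] at h3
        exact h3
      rw [h1, Nat.odd_iff, ← Nat.two_dvd_ne_zero]
      exact Cores.not_dvd_card_pPrimeCore 2
    rw [← map_comap_eq_self_of_surjective (QuotientGroup.mk'_surjective Z) O]
    show C.map (QuotientGroup.mk' Z) = ⊥
    rw [hCeq, Subgroup.map_eq_bot_iff, QuotientGroup.ker_mk']
  have hout := outcome_of_elementary (h.quotient Z) hOb Tb helb (le_refl 2) (by rw [hTb]; norm_num)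
  rcases hout with ⟨-, hb⟩ | ⟨h32, -⟩
  swap
  · omega
  have hcardX : Nat.card X = Nat.card (X ⧸ Z) * 2 := by
    rw [← hZ2]; exact Subgroup.card_eq_card_quotient_mul_card_subgroup Z
  have hQ : ∀ P : Sylow 2 X, Nonempty ((P : Subgroup X) ≃* QuaternionGroup 2) :=
    fun P => ⟨(Sylow.equiv P T).trans eT⟩
  rcases hb with hb | hb
  · refine Or.inl ?_
    obtain ⟨e⟩ := hb
    have h24 : Nat.card X = 24 := by
      rw [hcardX, Nat.card_congr e.toEquiv, nat_card_alternatingGroup, Nat.card_fin]
      norm_num [Nat.factorial]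
    haveI : Group.IsSolvable X := Spectrum.isSolvable_of_card_lt_sixty _ rfl (by omega)
    have hK2 : ∀ M : Subgroup X, M.index ≠ 2 := by
      intro M hM
      haveI : M.Normal := normal_of_index_eq_two hM
      by_cases hZM : Z ≤ M
      · refine not_index_two_alt ⟨e⟩ (M.map (QuotientGroup.mk' Z)) ?_
        rw [index_map_eq M (QuotientGroup.mk'_surjective Z) (by rwa [QuotientGroup.ker_mk'])]
        exact hM
      · have hM12 : 2 ∣ Nat.card M := by
          have := M.card_mul_index
          rw [hM, h24] at this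
          exact ⟨6, by omega⟩
        obtain ⟨m, hm⟩ := exists_prime_orderOf_dvd_card' (G := M) 2 hM12
        obtain ⟨g, hg⟩ := h.conj_involution (a := (m : X)) (b := (z : X))
          (by rw [Subgroup.orderOf_coe, hm]) hzX
        refine hZM ?_
        rw [← hzz, zpowers_le, ← hg]
        exact (inferInstance : M.Normal).conj_mem m m.2 g
    obtain ⟨-, -, i, j, g, hrel, hgen, -⟩ := GWConsumers31.exists_slRel hO hK2
      (fun P => ⟨1, le_rfl, by simpa using hQ P⟩)
    exact PGroups.nonempty_sl_equiv hrel hgen h24.ge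
  · refine Or.inr ?_
    obtain ⟨e⟩ := hb
    have h120 : Nat.card X = 120 := by
      rw [hcardX, Nat.card_congr e.toEquiv, nat_card_alternatingGroup, Nat.card_fin]
      norm_num [Nat.factorial]
    refine Spectrum.nonempty_equiv_sl25 h120 (fun hs => ?_) hQ
    haveI := hs
    haveI : Group.IsSolvable (alternatingGroup (Fin 5)) :=
      Group.isSolvable_of_surjective (f := e.toMonoidHom.comp (QuotientGroup.mk' Z))
        (e.surjective.comp (QuotientGroup.mk'_surjective Z))
    haveI : IsSimpleGroup (alternatingGroup (Fin 5)) := alternatingGroup.isSimpleGroup_five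
    have hc := (IsSimpleGroup.comm_iff_isSolvable (G := alternatingGroup (Fin 5))).2 inferInstance
    revert hc
    decide

/-- The classification. -/
theorem main {G : Type u} [Group G] [Finite G] (hC : EC G) :
    (IsCyclic (G ⧸ Cfsg.oddCore G) ∧ IsPGroup 2 (G ⧸ Cfsg.oddCore G)) ∨
    Nonempty (G ⧸ Cfsg.oddCore G ≃* Cfsg.affineGroup (GaloisField 2 3)) ∨
    Nonempty (G ⧸ Cfsg.oddCore G ≃* Cfsg.semiaffineGroup (GaloisField 2 3)) ∨
    Nonempty (G ⧸ Cfsg.oddCore G ≃* Cfsg.semiaffineGroup (GaloisField 2 5)) ∨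
    Nonempty (G ⧸ Cfsg.oddCore G ≃* Matrix.ProjectiveSpecialLinearGroup (Fin 2) (GaloisField 2 3)) ∨
    Nonempty (G ⧸ Cfsg.oddCore G ≃* MulAut (Matrix.ProjectiveSpecialLinearGroup (Fin 2) (GaloisField 2 5))) ∨
    Nonempty (G ⧸ Cfsg.oddCore G ≃* alternatingGroup (Fin 4)) ∨
    Nonempty (G ⧸ Cfsg.oddCore G ≃* alternatingGroup (Fin 5)) ∨
    Nonempty (G ⧸ Cfsg.oddCore G ≃* Matrix.SpecialLinearGroup (Fin 2) (ZMod 3)) ∨
    Nonempty (G ⧸ Cfsg.oddCore G ≃* Matrix.SpecialLinearGroup (Fin 2) (ZMod 5)) := by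
  haveI : Fact (Nat.Prime 2) := ⟨Nat.prime_two⟩
  have h := hC.quotient (Cfsg.oddCore G)
  have hO : Cfsg.oddCore (G ⧸ Cfsg.oddCore G) = ⊥ := Cores.pPrimeCore_quotient_pPrimeCore 2
  let T : Sylow 2 (G ⧸ Cfsg.oddCore G) := default
  rcases Cfsg.Agent.S4020.result (fun p _ H K _ _ hHK => h H K hHK) T with hT | hT | eT
  · exact Or.inl (cyclic_case hO T hT)
  · obtain ⟨n, hn⟩ := IsPGroup.iff_card.1 T.isPGroup'
    by_cases h2 : 2 ≤ n
    · rcases outcome_of_elementary h hO T hT h2 hn with ⟨-, hA⟩ | ⟨-, hA⟩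
      · rcases hA with hA | hA
        · exact Or.inr (Or.inr (Or.inr (Or.inr (Or.inr (Or.inr (Or.inl hA))))))
        · exact Or.inr (Or.inr (Or.inr (Or.inr (Or.inr (Or.inr (Or.inr (Or.inl hA)))))))
      · rcases hA with hA | hA | hA | hA | hA
        · exact Or.inr (Or.inl hA)
        · exact Or.inr (Or.inr (Or.inl hA))
        · exact Or.inr (Or.inr (Or.inr (Or.inl hA)))
        · exact Or.inr (Or.inr (Or.inr (Or.inr (Or.inl hA))))
        · exact Or.inr (Or.inr (Or.inr (Or.inr (Or.inr (Or.inl hA)))))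
    · refine Or.inl (cyclic_case hO T ?_)
      interval_cases n
      · haveI : Subsingleton (T : Subgroup (G ⧸ Cfsg.oddCore G)) :=
          (Nat.card_eq_one_iff_unique.1 (by simpa using hn)).1
        infer_instance
      · exact isCyclic_of_prime_card (p := 2) (by simpa using hn)
  · obtain ⟨eT⟩ := eT
    rcases quaternion_case h hO T eT with hA | hA
    · exact Or.inr (Or.inr (Or.inr (Or.inr (Or.inr (Or.inr (Or.inr (Or.inr (Or.inl hA))))))))
    · exact Or.inr (Or.inr (Or.inr (Or.inr (Or.inr (Or.inr (Or.inr (Or.inr (Or.inr hA))))))))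

end Cfsg.Agent.Lib.EqualConj4
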