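import Cfsg.Agent.Lib.EqualConj4.Normal
import Cfsg.Agent.Lib.Cores.MinNormal

/-!
A non-normal elementary Sylow 2-subgroup lies in a simple normal subgroup with trivial centraliser.
-/

set_option autoImplicit false
set_option linter.style.haveILetI false

universe u

namespace Cfsg.Agent.Lib.EqualConj4

open Subgroup

variable {X : Type u} [Group X] [Finite X]

theorem exists_simple (h : EC X) (hO : Cfsg.oddCore X = ⊥) (T : Sylow 2 X)
    (hel : Cfsg.IsElementaryAbelian 2 (T : Subgroup X)) (hnot : ¬ (T : Subgroup X).Normal) :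
    ∃ M : Subgroup X, M.Normal ∧ IsSimpleGroup M ∧ ¬ IsMulCommutative M ∧
      (T : Subgroup X) ≤ M ∧ centralizer (M : Set X) = ⊥ := by
  haveI : Fact (Nat.Prime 2) := ⟨Nat.prime_two⟩
  haveI : Nontrivial X := by
    by_contra hc
    haveI := not_nontrivial_iff_subsingleton.1 hc
    exact hnot (by rw [Subsingleton.elim (T : Subgroup X) ⊤]; infer_instance)
  obtain ⟨M, hMn, hMb, hmin⟩ := Cores.MinNormal.exists_minimal (G := X)
  haveI := hMn
  have hTM : (T : Subgroup X) ≤ M := sylow_le_normal h hO hel hMb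
  have h2g : ¬ IsPGroup 2 M := fun hp => hnot (T.is_maximal' hp hTM ▸ hMn)
  have hp2 : Cfsg.pCore 2 M = ⊥ := by
    haveI hc : (Cfsg.pCore 2 M).Characteristic := by
      exact Subgroup.characteristic_iff_map_eq.2 fun e => Cores.map_pCore_equiv e
    rcases hmin _ (Cores.normal_map_subtype M (Cfsg.pCore 2 M)) (map_subtype_le _) with h1 | h1
    · exact (map_eq_bot_iff_of_injective _ M.subtype_injective).1 h1
    · exact absurd (h1 ▸ (Cores.pCore_isPGroup 2).map M.subtype) h2g
  haveI : Nontrivial M := (Subgroup.nontrivial_iff_ne_bot M).2 hMb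
  obtain ⟨L, hLn, hLb, hLmin⟩ := Cores.MinNormal.exists_minimal (G := M)
  haveI := hLn
  -- `L` contains an involution
  have hOM : Cfsg.oddCore M = ⊥ := by
    haveI := Cores.normal_map_subtype M (Cfsg.pPrimeCore 2 M)
    refine (map_eq_bot_iff_of_injective _ M.subtype_injective).1 (le_bot_iff.1 (le_trans
      (Cores.le_pPrimeCore_of_not_dvd ?_) (le_of_eq hO)))
    rw [Subgroup.card_map_of_injective M.subtype_injective]
    exact Cores.not_dvd_card_pPrimeCore 2
  obtain ⟨a, haL, ha⟩ := exists_involution_of_normal hOM hLb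
  -- the conjugates of `L`
  have hLconj : ∀ x : X, (L.map (MulAut.conjNormal x : MulAut M).toMonoidHom).Normal ∧
      ∀ N : Subgroup M, N.Normal → N ≤ L.map (MulAut.conjNormal x : MulAut M).toMonoidHom →
        N = ⊥ ∨ N = L.map (MulAut.conjNormal x : MulAut M).toMonoidHom := by
    intro x
    set α : MulAut M := MulAut.conjNormal x
    refine ⟨hLn.map _ α.surjective, fun N hN hle => ?_⟩
    have hle' : N.comap α.toMonoidHom ≤ L := by
      refine (comap_mono hle).trans (le_of_eq ?_)
      exact comap_map_eq_self_of_injective (f := α.toMonoidHom) α.injective L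
    rcases hLmin _ (hN.comap _) hle' with h1 | h1
    · left
      rw [← map_comap_eq_self_of_surjective (f := α.toMonoidHom) α.surjective N, h1, Subgroup.map_bot]
    · right
      rw [← map_comap_eq_self_of_surjective (f := α.toMonoidHom) α.surjective N, h1]
  have hfix : ∀ x : X, L.map (MulAut.conjNormal x : MulAut M).toMonoidHom = L := by
    intro x
    set α : MulAut M := MulAut.conjNormal x
    set L2 := L.map α.toMonoidHom
    by_contra hne
    haveI := (hLconj x).1
    have hdisj : L ⊓ L2 = ⊥ := by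
      rcases hLmin _ (Subgroup.normal_inf_normal L L2) inf_le_left with h1 | h1
      · exact h1
      · exfalso
        rcases (hLconj x).2 L hLn (inf_eq_left.1 h1) with h2 | h2
        · exact hLb h2
        · exact hne h2.symm
    have hbL : α a ∈ L2 := ⟨a, haL, rfl⟩
    have hb : orderOf (α a) = 2 := by
      rw [MulEquiv.orderOf_eq, ha]
    have hcomm : ∀ s ∈ L, ∀ t ∈ L2, Commute s t := fun s hs t ht =>
      Subgroup.commute_of_normal_of_disjoint L L2 hLn inferInstance (disjoint_iff.2 hdisj) s t hs ht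
    have hab : a * α a ≠ 1 := fun h1 => by
      have h2 : a ∈ L2 := eq_inv_of_mul_eq_one_left h1 ▸ L2.inv_mem hbL
      have h3 : a ∈ L ⊓ L2 := ⟨haL, h2⟩
      rw [hdisj, Subgroup.mem_bot] at h3
      simp [h3] at ha
    have hab2 : orderOf (a * α a) = 2 := by
      refine orderOf_eq_prime ?_ hab
      rw [(hcomm a haL _ hbL).mul_pow]
      nth_rewrite 1 [← ha]
      nth_rewrite 1 [← hb]
      rw [pow_orderOf_eq_one, pow_orderOf_eq_one, one_mul]
    obtain ⟨y, hy⟩ := h.conj_involution (a := (a : X)) (b := ((a * α a : M) : X))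
      (by rw [Subgroup.orderOf_coe, ha]) (by rw [Subgroup.orderOf_coe, hab2])
    set β : MulAut M := MulAut.conjNormal y
    have hy' : β a = a * α a := Subtype.ext (by rw [MulAut.conjNormal_apply]; exact hy)
    set L3 := L.map β.toMonoidHom
    haveI := (hLconj y).1
    have h3 : a * α a ∈ L3 := hy' ▸ ⟨a, haL, rfl⟩
    have hL3 : L ⊓ L3 = ⊥ := by
      rcases hLmin _ (Subgroup.normal_inf_normal L L3) inf_le_left with h1 | h1
      · exact h1
      · exfalso
        have h4 : α a ∈ L := by
          have : L = L3 := by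
            rcases (hLconj y).2 L hLn (inf_eq_left.1 h1) with h2 | h2
            · exact absurd h2 hLb
            · exact h2
          have h5 := L.mul_mem (L.inv_mem haL) (this.symm ▸ h3)
          rwa [inv_mul_cancel_left] at h5
        have h5 : α a ∈ L ⊓ L2 := ⟨h4, hbL⟩
        rw [hdisj, Subgroup.mem_bot] at h5
        simp [h5] at hb
    have hc3 : ∀ s ∈ L, ∀ t ∈ L3, Commute s t := fun s hs t ht =>
      Subgroup.commute_of_normal_of_disjoint L L3 hLn inferInstance (disjoint_iff.2 hL3) s t hs ht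
    -- `a` is central in `L`
    have hcen : ∀ s ∈ L, Commute s a := fun s hs => by
      have h1 := (hc3 s hs _ h3).mul_right ((hcomm s hs _ hbL).inv_right)
      rwa [mul_inv_cancel_right] at h1
    have haz : (⟨a, haL⟩ : L) ∈ Cfsg.pCore 2 L := by
      haveI : (zpowers (⟨a, haL⟩ : L)).Normal := ⟨fun t ht g => by
        obtain ⟨k, rfl⟩ := mem_zpowers_iff.1 ht
        have hga : Commute g (⟨a, haL⟩ : L) := Subtype.ext (hcen g g.2)
        rw [(hga.zpow_right k).eq, mul_inv_cancel_right]
        exact zpow_mem (mem_zpowers _) k⟩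
      refine Cores.le_pCore (IsPGroup.of_card (n := 1) ?_) (mem_zpowers _)
      rw [Nat.card_zpowers, pow_one, ← ha, ← Subgroup.orderOf_coe]
    haveI : (Cfsg.pCore 2 L).Characteristic :=
      Subgroup.characteristic_iff_map_eq.2 fun e => Cores.map_pCore_equiv e
    haveI := Cores.normal_map_subtype L (Cfsg.pCore 2 L)
    have h4 : a ∈ Cfsg.pCore 2 M :=
      Cores.le_pCore ((Cores.pCore_isPGroup 2).map L.subtype) ⟨_, haz, rfl⟩
    rw [hp2, Subgroup.mem_bot] at h4
    simp [h4] at ha
  have hLM : (L.map M.subtype).Normal := ⟨fun z hz x => by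
    obtain ⟨s, hs, rfl⟩ := hz
    refine ⟨(MulAut.conjNormal x : MulAut M) s, ?_, MulAut.conjNormal_apply x s⟩
    have h1 : (MulAut.conjNormal x : MulAut M) s ∈ L.map (MulAut.conjNormal x : MulAut M).toMonoidHom :=
      ⟨s, hs, rfl⟩
    rwa [hfix x] at h1⟩
  have hLtop : L = ⊤ := by
    rcases hmin _ hLM (map_subtype_le _) with h1 | h1
    · exact absurd ((map_eq_bot_iff_of_injective _ M.subtype_injective).1 h1) hLb
    · refine eq_top_iff.2 fun s _ => ?_
      obtain ⟨t, ht, hts⟩ : (s : X) ∈ L.map M.subtype := h1.symm ▸ s.2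
      exact Subtype.ext hts ▸ ht
  haveI hs : IsSimpleGroup M := ⟨fun N hN => by
    rcases hLmin N hN (hLtop ▸ le_top) with h1 | h1
    · exact Or.inl h1
    · exact Or.inr (h1.trans hLtop)⟩
  have hnc : ¬ IsMulCommutative M := fun hc => by
    apply h2g
    haveI := hc
    haveI : (zpowers a).Normal := ⟨fun t ht g => by
      rw [mul_comm' g t, mul_inv_cancel_right]; exact ht⟩
    have hz : zpowers a = ⊤ := (hs.eq_bot_or_eq_top_of_normal _ inferInstance).resolve_left fun hb => by
      rw [zpowers_eq_bot] at hb; simp [hb] at ha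
    refine IsPGroup.of_card (n := 1) ?_
    rw [pow_one, ← Subgroup.card_top, ← hz, Nat.card_zpowers, ha]
  refine ⟨M, hMn, hs, hnc, hTM, ?_⟩
  by_contra hC
  obtain ⟨b, hbC, hb⟩ := exists_involution_of_normal hO hC
  have hbM : b ∈ M := h.involution_mem hO hMb hb
  haveI : (zpowers (⟨b, hbM⟩ : M)).Normal := ⟨fun t ht g => by
    obtain ⟨k, rfl⟩ := mem_zpowers_iff.1 ht
    have hga : Commute g (⟨b, hbM⟩ : M) := Subtype.ext (mem_centralizer_iff.1 hbC g g.2)
    rw [(hga.zpow_right k).eq, mul_inv_cancel_right]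
    exact zpow_mem (mem_zpowers _) k⟩
  rcases hs.eq_bot_or_eq_top_of_normal (zpowers (⟨b, hbM⟩ : M)) inferInstance with h1 | h1
  · rw [zpowers_eq_bot] at h1
    simp [show b = 1 from congrArg Subtype.val h1] at hb
  · refine h2g (IsPGroup.of_card (n := 1) ?_)
    rw [pow_one, ← Subgroup.card_top, ← h1, Nat.card_zpowers, ← Subgroup.orderOf_coe, hb]

end Cfsg.Agent.Lib.EqualConj4
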